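import Mathlib.GroupTheory.Nilpotent
import Mathlib.GroupTheory.Solvable
import Mathlib.GroupTheory.Sylow
import Mathlib.GroupTheory.SpecificGroups.Cyclic
import Mathlib.GroupTheory.IndexNormal
import Cfsg.Prelude.Def_SolvableStructure

/-!
Basic theory of supersolvable finite groups for `Cfsg.IsSupersolvable`:
closure under quotients, subgroups, extensions by cyclic normal subgroups and products; nilpotent
groups are supersolvable; a nontrivial supersolvable group has a normal subgroup of prime order,
indeed of order the largest prime divisor.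
-/

open Pointwise

namespace CfsgLib.Supersolvable

universe u v

variable {G : Type u} [Group G]

theorem isSupersolvable_iff_nat : Cfsg.IsSupersolvable G ↔
    ∃ (n : ℕ) (H : ℕ → Subgroup G), H 0 = ⊥ ∧ H n = ⊤ ∧ (∀ i, (H i).Normal) ∧
      ∀ i < n, ∃ g : G, H (i + 1) = H i ⊔ Subgroup.zpowers g := by
  constructor
  · rintro ⟨n, H, h0, hn, hnorm, hstep⟩
    refine ⟨n, fun i => H ⟨min i n, Nat.lt_succ_of_le (min_le_right _ _)⟩, ?_, ?_,
      fun i => hnorm _, fun i hi => ?_⟩
    · simpa using h0
    · show H _ = ⊤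
      rw [← hn]
      exact congrArg H (Fin.ext (min_self n))
    · obtain ⟨g, hg⟩ := hstep ⟨i, hi⟩
      refine ⟨g, ?_⟩
      rw [show (⟨i, hi⟩ : Fin n).succ = ⟨min (i + 1) n, Nat.lt_succ_of_le (min_le_right _ _)⟩
          from Fin.ext (min_eq_left hi).symm,
        show (⟨i, hi⟩ : Fin n).castSucc = ⟨min i n, Nat.lt_succ_of_le (min_le_right _ _)⟩
          from Fin.ext (min_eq_left hi.le).symm] at hg
      exact hg
  · rintro ⟨n, H, h0, hn, hnorm, hstep⟩
    exact ⟨n, fun i => H i, h0, by simpa using hn, fun i => hnorm _,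
      fun i => by simpa using hstep i i.2⟩

/-- Images of supersolvable groups are supersolvable. -/
theorem of_surjective {G' : Type v} [Group G'] (f : G →* G') (hf : Function.Surjective f)
    (h : Cfsg.IsSupersolvable G) : Cfsg.IsSupersolvable G' := by
  obtain ⟨n, H, h0, hn, hnorm, hstep⟩ := h
  refine ⟨n, fun i => (H i).map f, by simp [h0], by simp [hn, Subgroup.map_top_of_surjective f hf],
    fun i => (hnorm i).map f hf, fun i => ?_⟩
  obtain ⟨g, hg⟩ := hstep i
  exact ⟨f g, by simp only; rw [hg, Subgroup.map_sup, MonoidHom.map_zpowers]⟩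

theorem quotient (h : Cfsg.IsSupersolvable G) (N : Subgroup G) [N.Normal] :
    Cfsg.IsSupersolvable (G ⧸ N) :=
  of_surjective _ (QuotientGroup.mk'_surjective N) h

theorem of_mulEquiv {G' : Type v} [Group G'] (e : G ≃* G') (h : Cfsg.IsSupersolvable G) :
    Cfsg.IsSupersolvable G' :=
  of_surjective e.toMonoidHom e.surjective h

theorem of_subsingleton [Subsingleton G] : Cfsg.IsSupersolvable G :=
  ⟨0, fun _ => ⊥, rfl, Subsingleton.elim _ _, fun _ => inferInstance, fun i => i.elim0⟩

/-- An extension of a cyclic normal subgroup by a supersolvable group is supersolvable. -/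
theorem of_quotient (N : Subgroup G) [N.Normal] [IsCyclic N]
    (h : Cfsg.IsSupersolvable (G ⧸ N)) : Cfsg.IsSupersolvable G := by
  obtain ⟨n, H, h0, hn, hnorm, hstep⟩ := isSupersolvable_iff_nat.mp h
  obtain ⟨⟨z, hzN⟩, hz⟩ := IsCyclic.exists_generator (α := N)
  have hNz : N = Subgroup.zpowers z := by
    refine le_antisymm (fun x hx => ?_) (Subgroup.zpowers_le.mpr hzN)
    obtain ⟨k, hk⟩ := hz ⟨x, hx⟩
    exact ⟨k, congrArg Subtype.val hk⟩
  set f := QuotientGroup.mk' N
  have hker : f.ker = N := QuotientGroup.ker_mk' N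
  refine isSupersolvable_iff_nat.mpr ⟨n + 1,
    fun | 0 => ⊥ | i + 1 => (H i).comap f, rfl, ?_, ?_, ?_⟩
  · show (H n).comap f = ⊤
    rw [hn, Subgroup.comap_top]
  · rintro (_ | i)
    · exact Subgroup.normal_bot
    · exact (hnorm i).comap f
  · rintro (_ | i) hi
    · refine ⟨z, ?_⟩
      show (H 0).comap f = ⊥ ⊔ _
      rw [h0, MonoidHom.comap_bot, hker, bot_sup_eq, hNz]
    · obtain ⟨g, hg⟩ := hstep i (Nat.lt_of_succ_lt_succ hi)
      obtain ⟨g, rfl⟩ := QuotientGroup.mk'_surjective N g
      refine ⟨g, ?_⟩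
      show (H (i + 1)).comap f = (H i).comap f ⊔ _
      have hNle : N ≤ (H i).comap f := hker.symm.le.trans (f.ker_le_comap _)
      have h1 : H (i + 1) = ((H i).comap f ⊔ Subgroup.zpowers g).map f := by
        rw [Subgroup.map_sup, MonoidHom.map_zpowers,
          Subgroup.map_comap_eq_self_of_surjective (QuotientGroup.mk'_surjective N), hg]
      rw [h1, Subgroup.comap_map_eq, hker, sup_eq_left.mpr (hNle.trans le_sup_left)]

/-- A nontrivial supersolvable group has a nontrivial cyclic normal subgroup. -/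
theorem exists_normal_isCyclic [Nontrivial G] (h : Cfsg.IsSupersolvable G) :
    ∃ N : Subgroup G, N.Normal ∧ N ≠ ⊥ ∧ IsCyclic N := by
  obtain ⟨n, H, h0, hn, hnorm, hstep⟩ := isSupersolvable_iff_nat.mp h
  classical
  have hex : ∃ i, H i ≠ ⊥ := ⟨n, by rw [hn]; exact top_ne_bot⟩
  have hspec := Nat.find_spec hex
  have hle := Nat.find_min' hex (m := n) (by rw [hn]; exact top_ne_bot)
  obtain ⟨j, hj⟩ : ∃ j, Nat.find hex = j + 1 :=
    Nat.exists_eq_succ_of_ne_zero fun h => hspec (h ▸ h0)
  rw [hj] at hspec
  have hjbot : H j = ⊥ := not_not.mp (Nat.find_min hex (hj ▸ Nat.lt_succ_self j))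
  obtain ⟨g, hg⟩ := hstep j (by omega)
  rw [hjbot, bot_sup_eq] at hg
  exact ⟨H (j + 1), hnorm _, hspec, by rw [hg]; infer_instance⟩

/-- A nontrivial supersolvable group has a normal subgroup of prime order. -/
theorem exists_normal_prime_card [Finite G] [Nontrivial G] (h : Cfsg.IsSupersolvable G) :
    ∃ N : Subgroup G, N.Normal ∧ (Nat.card N).Prime := by
  obtain ⟨C, hC, hne, hcyc⟩ := exists_normal_isCyclic h
  obtain ⟨p, hp, hdvd⟩ := Nat.exists_prime_and_dvd (mt Subgroup.card_eq_one.mp hne)
  have := Fact.mk hp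
  obtain ⟨x, hx⟩ := exists_prime_orderOf_dvd_card' p hdvd
  refine ⟨(Subgroup.zpowers x).map C.subtype, ?_, ?_⟩
  · have : (Subgroup.zpowers x).Characteristic := by
      refine Subgroup.characteristic_iff_map_le.mpr fun φ => ?_
      rw [MonoidHom.map_zpowers, Subgroup.zpowers_le]
      -- in a cyclic group a subgroup is determined by its order
      obtain ⟨m, hm⟩ := MonoidHom.map_cyclic φ.toMonoidHom
      exact Subgroup.mem_zpowers_iff.mpr ⟨m, (hm x).symm⟩
    infer_instance
  · rwa [Subgroup.card_map_of_injective C.subtype_injective, Nat.card_zpowers, hx]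

private theorem subgroup_aux (n : ℕ) : ∀ (G : Type u) [Group G] [Finite G], Nat.card G = n →
    Cfsg.IsSupersolvable G → ∀ H : Subgroup G, Cfsg.IsSupersolvable H := by
  induction n using Nat.strongRecOn with | ind n ih => ?_
  intro G _ _ hn h H
  rcases subsingleton_or_nontrivial G with hG | hG
  · exact of_subsingleton
  obtain ⟨N, hN, hp⟩ := exists_normal_prime_card h
  have := Fact.mk hp
  have : IsCyclic N := isCyclic_of_prime_card rfl
  have : IsCyclic (N.subgroupOf H) := isCyclic_of_injective
    (H.subtype.subgroupComap N) (fun a b hab => Subtype.ext (Subtype.ext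
      (congrArg (fun z : N => (z : G)) hab)))
  refine of_quotient (N.subgroupOf H) ?_
  let f : H →* G ⧸ N := (QuotientGroup.mk' N).comp H.subtype
  have hlt : Nat.card (G ⧸ N) < n := by
    rw [← hn, ← N.index_eq_card, ← N.card_mul_index]
    exact lt_mul_of_one_lt_left (Nat.pos_of_ne_zero Subgroup.index_ne_zero_of_finite) hp.one_lt
  have hker : f.ker = N.subgroupOf H := by
    rw [← MonoidHom.comap_ker, QuotientGroup.ker_mk']; rfl
  exact of_mulEquiv ((QuotientGroup.quotientMulEquivOfEq hker.symm).trans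
    (QuotientGroup.quotientKerEquivRange f)).symm (ih _ hlt (G ⧸ N) rfl (quotient h N) f.range)

/-- Subgroups of finite supersolvable groups are supersolvable. -/
theorem subgroup [Finite G] (h : Cfsg.IsSupersolvable G) (H : Subgroup G) :
    Cfsg.IsSupersolvable H :=
  subgroup_aux _ G rfl h H

theorem of_injective [Finite G] {G' : Type v} [Group G'] (f : G' →* G) (hf : Function.Injective f)
    (h : Cfsg.IsSupersolvable G) : Cfsg.IsSupersolvable G' :=
  of_mulEquiv (MonoidHom.ofInjective hf).symm (subgroup h f.range)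

private theorem prod_aux {H : Type v} [Group H] [Finite H] (hH : Cfsg.IsSupersolvable H) (n : ℕ) :
    ∀ (G : Type u) [Group G] [Finite G], Nat.card G = n → Cfsg.IsSupersolvable G →
      Cfsg.IsSupersolvable (G × H) := by
  induction n using Nat.strongRecOn with | ind n ih => ?_
  intro G _ _ hn h
  rcases subsingleton_or_nontrivial G with hG | hG
  · exact of_surjective ((1 : H →* G).prod (MonoidHom.id H))
      (fun x => ⟨x.2, Prod.ext (Subsingleton.elim _ _) rfl⟩) hH
  obtain ⟨N, hN, hp⟩ := exists_normal_prime_card h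
  have := Fact.mk hp
  have : IsCyclic N := isCyclic_of_prime_card rfl
  let f : G × H →* (G ⧸ N) × H := (QuotientGroup.mk' N).prodMap (MonoidHom.id H)
  have hf : Function.Surjective f := by
    rintro ⟨a, b⟩
    obtain ⟨a, rfl⟩ := QuotientGroup.mk'_surjective N a
    exact ⟨(a, b), rfl⟩
  have hlt : Nat.card (G ⧸ N) < n := by
    rw [← hn, ← N.index_eq_card, ← N.card_mul_index]
    exact lt_mul_of_one_lt_left (Nat.pos_of_ne_zero Subgroup.index_ne_zero_of_finite) hp.one_lt
  have hmem : ∀ x : G × H, x ∈ f.ker ↔ x.1 ∈ N ∧ x.2 = 1 := fun x => by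
    simp [f, MonoidHom.mem_ker, Prod.ext_iff]
  have : IsCyclic f.ker := isCyclic_of_injective
    ({ toFun := fun x => (⟨x.1.1, ((hmem _).mp x.2).1⟩ : N), map_one' := rfl,
       map_mul' := fun _ _ => rfl } : f.ker →* N)
    (fun a b hab => Subtype.ext (Prod.ext (congrArg (fun z : N => (z : G)) hab)
      (((hmem _).mp a.2).2.trans ((hmem _).mp b.2).2.symm)))
  exact of_quotient f.ker (of_mulEquiv (QuotientGroup.quotientKerEquivOfSurjective f hf).symm
    (ih _ hlt (G ⧸ N) rfl (quotient h N)))

/-- A product of two finite supersolvable groups is supersolvable. -/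
theorem prod [Finite G] {H : Type v} [Group H] [Finite H] (hG : Cfsg.IsSupersolvable G)
    (hH : Cfsg.IsSupersolvable H) : Cfsg.IsSupersolvable (G × H) :=
  prod_aux hH _ G rfl hG

private theorem isSolvable_aux (n : ℕ) : ∀ (G : Type u) [Group G] [Finite G], Nat.card G = n →
    Cfsg.IsSupersolvable G → Group.IsSolvable G := by
  induction n using Nat.strongRecOn with | ind n ih => ?_
  intro G _ _ hn h
  rcases subsingleton_or_nontrivial G with hG | hG
  · exact Group.isSolvable_of_comm fun a b => Subsingleton.elim _ _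
  obtain ⟨N, hN, hp⟩ := exists_normal_prime_card h
  have := Fact.mk hp
  have hNc : IsCyclic N := isCyclic_of_prime_card rfl
  have hlt : Nat.card (G ⧸ N) < n := by
    rw [← hn, ← N.index_eq_card, ← N.card_mul_index]
    exact lt_mul_of_one_lt_left (Nat.pos_of_ne_zero Subgroup.index_ne_zero_of_finite) hp.one_lt
  have := ih _ hlt (G ⧸ N) rfl (quotient h N)
  letI := IsCyclic.commGroup (α := N)
  exact Group.isSolvable_of_ker_le_range N.subtype (QuotientGroup.mk' N) (by simp)

/-- Finite supersolvable groups are solvable. -/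
theorem isSolvable [Finite G] (h : Cfsg.IsSupersolvable G) : Group.IsSolvable G :=
  isSolvable_aux _ G rfl h

private theorem of_isNilpotent_aux (n : ℕ) : ∀ (G : Type u) [Group G] [Finite G], Nat.card G = n →
    Group.IsNilpotent G → Cfsg.IsSupersolvable G := by
  induction n using Nat.strongRecOn with | ind n ih => ?_
  intro G _ _ hn h
  rcases subsingleton_or_nontrivial G with hG | hG
  · exact of_subsingleton
  obtain ⟨p, hp, hdvd⟩ := Nat.exists_prime_and_dvd
    (mt Subgroup.card_eq_one.mp (Group.IsNilpotent.center_ne_bot (G := G)))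
  have := Fact.mk hp
  obtain ⟨z, hz⟩ := exists_prime_orderOf_dvd_card' p hdvd
  have hzn : (Subgroup.zpowers (z : G)).Normal := by
    constructor
    rintro x ⟨k, rfl⟩ g
    have hc : g * ((z : G) ^ k) * g⁻¹ = (z : G) ^ k := by
      rw [Subgroup.mem_center_iff.mp (zpow_mem z.2 k) g, mul_inv_cancel_right]
    exact hc.symm ▸ Subgroup.zpow_mem_zpowers _ k
  have hlt : Nat.card (G ⧸ Subgroup.zpowers (z : G)) < n := by
    rw [← hn, ← Subgroup.index_eq_card, ← (Subgroup.zpowers (z : G)).card_mul_index,
      Nat.card_zpowers, Subgroup.orderOf_coe, hz]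
    exact lt_mul_of_one_lt_left (Nat.pos_of_ne_zero Subgroup.index_ne_zero_of_finite) hp.one_lt
  exact of_quotient _ (ih _ hlt _ rfl inferInstance)

/-- Finite nilpotent groups are supersolvable. -/
theorem of_isNilpotent [Finite G] [h : Group.IsNilpotent G] : Cfsg.IsSupersolvable G :=
  of_isNilpotent_aux _ G rfl h

private theorem largest_prime_aux (n : ℕ) : ∀ (G : Type u) [Group G] [Finite G], Nat.card G = n →
    Cfsg.IsSupersolvable G → ∀ p : ℕ, p.Prime → p ∣ Nat.card G →
      (∀ q : ℕ, q.Prime → q ∣ Nat.card G → q ≤ p) →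
      ∃ N : Subgroup G, N.Normal ∧ Nat.card N = p := by
  induction n using Nat.strongRecOn with | ind n ih => ?_
  intro G _ _ hn h p hp hdvd hmax
  have : Nontrivial G := by
    rw [← Finite.one_lt_card_iff_nontrivial]
    exact lt_of_lt_of_le hp.one_lt (Nat.le_of_dvd Nat.card_pos hdvd)
  obtain ⟨N, hN, hq⟩ := exists_normal_prime_card h
  set q := Nat.card N with hqdef
  rcases eq_or_ne q p with hqp | hqp
  · exact ⟨N, hN, hqp⟩
  have hlt : Nat.card (G ⧸ N) < n := by
    rw [← hn, ← N.index_eq_card, ← N.card_mul_index]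
    exact lt_mul_of_one_lt_left (Nat.pos_of_ne_zero Subgroup.index_ne_zero_of_finite) hq.one_lt
  have hsub : Nat.card (G ⧸ N) ∣ Nat.card G := Subgroup.card_quotient_dvd_card N
  have hpq : p ∣ Nat.card (G ⧸ N) := by
    rw [← N.index_eq_card]
    rw [← N.card_mul_index] at hdvd
    exact ((Nat.coprime_primes hp hq).mpr hqp.symm).dvd_of_dvd_mul_left hdvd
  obtain ⟨M', hM', hcM'⟩ := ih _ hlt _ rfl (quotient h N) p hp hpq
    fun r hr hrd => hmax r hr (hrd.trans hsub)
  set M := M'.comap (QuotientGroup.mk' N)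
  have hMn : M.Normal := hM'.comap _
  have hcM : Nat.card M = q * p := by
    have h1 : M.index = M'.index :=
      Subgroup.index_comap_of_surjective _ (QuotientGroup.mk'_surjective N)
    have h2 := M.card_mul_index
    rw [h1, ← N.card_mul_index, N.index_eq_card, ← M'.card_mul_index, hcM', ← mul_assoc,
      ← hqdef] at h2
    exact Nat.eq_of_mul_eq_mul_right (Nat.pos_of_ne_zero Subgroup.index_ne_zero_of_finite) h2
  have := Fact.mk hp
  let P : Sylow p M := default
  have hcP : Nat.card P = p := by
    rw [P.card_eq_multiplicity, hcM, Nat.factorization_mul hq.ne_zero hp.ne_zero]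
    simp [hq.factorization, hp.factorization, Finsupp.single_apply, hqp]
  have hqlt : q < p := lt_of_le_of_ne
    (hmax q hq (hqdef ▸ Subgroup.card_subgroup_dvd_card N)) hqp
  have hidx : (P : Subgroup M).index = q := by
    have h2 := (P : Subgroup M).card_mul_index
    rw [hcP, hcM, mul_comm q p] at h2
    exact Nat.eq_of_mul_eq_mul_left hp.pos h2
  have hone : Nat.card (Sylow p M) = 1 := by
    have h1 : Nat.card (Sylow p M) ∣ q := hidx ▸ P.card_dvd_index
    have h2 := card_sylow_modEq_one p M
    rcases (Nat.dvd_prime hq).mp h1 with h | h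
    · exact h
    · rw [h, Nat.ModEq, Nat.mod_eq_of_lt hqlt, Nat.mod_eq_of_lt hp.one_lt] at h2
      exact absurd h2 hq.one_lt.ne'
  have : Subsingleton (Sylow p M) := (Nat.card_eq_one_iff_unique.mp hone).1
  have := Sylow.characteristic_of_subsingleton P
  exact ⟨(P : Subgroup M).map M.subtype, inferInstance,
    by rw [Subgroup.card_map_of_injective M.subtype_injective]; exact hcP⟩

/-- A supersolvable group has a normal subgroup whose order is the largest prime divisor of the
group order. -/
theorem exists_normal_card_largest [Finite G] (h : Cfsg.IsSupersolvable G) {p : ℕ} (hp : p.Prime)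
    (hdvd : p ∣ Nat.card G) (hmax : ∀ q : ℕ, q.Prime → q ∣ Nat.card G → q ≤ p) :
    ∃ N : Subgroup G, N.Normal ∧ Nat.card N = p :=
  largest_prime_aux _ G rfl h p hp hdvd hmax

end CfsgLib.Supersolvable
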