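import Mathlib.GroupTheory.SchurZassenhaus
import Mathlib.GroupTheory.Frattini
import Cfsg.Agent.Supersolvable.Basic

/-!
Criteria for supersolvability and for normal Sylow subgroups of the largest prime:
* `normal_sylow_of_hereditary`: if every subgroup has subgroups of every order;
* `normal_sylow_of_prime_index`, `isSolvable_of_prime_index`: if maximal subgroups have prime
  index;
* `exists_normal_prime_card_le`: normal subgroups of supersolvable groups contain normal subgroups
  of prime order;
* `of_hereditary`: the converse of Lagrange for all subgroups implies supersolvability.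
-/

open Pointwise

namespace CfsgLib.Supersolvable

universe u v

variable {G : Type u} [Group G]

theorem hasSubgroupOfEveryOrder_of_mulEquiv {G' : Type v} [Group G'] (e : G ≃* G')
    (h : Cfsg.HasSubgroupOfEveryOrder G) : Cfsg.HasSubgroupOfEveryOrder G' := fun d hd => by
  obtain ⟨H, hH⟩ := h d (by rwa [Nat.card_congr e.toEquiv])
  exact ⟨H.map e.toMonoidHom, by rw [Subgroup.card_map_of_injective (f := e.toMonoidHom) e.injective, hH]⟩

theorem hereditary_subgroup (h : ∀ H : Subgroup G, Cfsg.HasSubgroupOfEveryOrder H)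
    (K : Subgroup G) (H : Subgroup K) : Cfsg.HasSubgroupOfEveryOrder H :=
  hasSubgroupOfEveryOrder_of_mulEquiv (H.equivMapOfInjective K.subtype K.subtype_injective).symm
    (h _)

private theorem hereditary_sylow_aux (n : ℕ) : ∀ (G : Type u) [Group G] [Finite G],
    Nat.card G = n → (∀ H : Subgroup G, Cfsg.HasSubgroupOfEveryOrder H) →
    ∀ (p : ℕ) [Fact p.Prime], (∀ q : ℕ, q.Prime → q ∣ Nat.card G → q ≤ p) →
      ∀ P : Sylow p G, (P : Subgroup G).Normal := by
  induction n using Nat.strongRecOn with | ind n ih => ?_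
  intro G _ _ hn h p hp hmax P
  rcases eq_or_ne (Nat.card G) 1 with h1 | h1
  · have : Subsingleton G := (Nat.card_eq_one_iff_unique.mp h1).1
    rw [Subsingleton.elim (P : Subgroup G) ⊤]
    infer_instance
  set q := (Nat.card G).minFac with hqdef
  have hq : q.Prime := Nat.minFac_prime h1
  rcases eq_or_ne q p with hqp | hqp
  · have hG : IsPGroup p G := by
      refine IsPGroup.of_card (n := (Nat.card G).primeFactorsList.length)
        (Nat.eq_prime_pow_of_unique_prime_dvd Nat.card_pos.ne' fun {r} hr hrd => ?_)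
      exact le_antisymm (hmax r hr hrd) (hqp ▸ Nat.minFac_le_of_dvd hr.two_le hrd)
    have := P.is_maximal' (Q := ⊤) (hG.to_subgroup ⊤) le_top
    rw [← this]; infer_instance
  obtain ⟨d, hd⟩ := Nat.minFac_dvd (Nat.card G)
  rw [← hqdef] at hd
  obtain ⟨H, hH⟩ := hasSubgroupOfEveryOrder_of_mulEquiv Subgroup.topEquiv (h ⊤) d
    (Dvd.intro_left q hd.symm)
  have hidx : H.index = q := by
    have h2 := H.card_mul_index
    rw [hH, hd, mul_comm q] at h2
    exact Nat.eq_of_mul_eq_mul_left (hH ▸ Nat.card_pos (α := H)) h2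
  have hn' : H.Normal := Subgroup.normal_of_index_eq_minFac_card (hidx.trans hqdef)
  have hPH : (P : Subgroup G) ≤ H := by
    rw [← Subgroup.relIndex_eq_one]
    obtain ⟨k, hk⟩ := P.isPGroup'.exists_card_eq
    refine Nat.eq_one_of_dvd_coprimes (Nat.Coprime.pow_right k ((Nat.coprime_primes hq hp.out).mpr hqp))
      (hidx ▸ Subgroup.relIndex_dvd_index_of_normal H P) (hk ▸ Subgroup.relIndex_dvd_card H P)
  have hlt : Nat.card H < n := by
    rw [hH, ← hn, hd]
    exact lt_mul_of_one_lt_left (hH ▸ Nat.card_pos (α := H)) hq.one_lt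
  have := ih _ hlt H rfl (hereditary_subgroup h H) p
    (fun r hr hrd => hmax r hr (hrd.trans H.card_subgroup_dvd_card)) (P.subtype hPH)
  have := Sylow.characteristic_of_normal (P.subtype hPH) this
  have h2 : ((P.subtype hPH : Sylow p H) : Subgroup H).map H.subtype = (P : Subgroup G) := by
    rw [Sylow.coe_subtype, Subgroup.subgroupOf_map_subtype, inf_eq_left.mpr hPH]
  rw [← h2]; infer_instance

/-- If every subgroup satisfies the converse of Lagrange's theorem, the Sylow subgroup for the
largest prime divisor is normal. -/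
theorem normal_sylow_of_hereditary [Finite G] (h : ∀ H : Subgroup G, Cfsg.HasSubgroupOfEveryOrder H)
    {p : ℕ} [Fact p.Prime] (hmax : ∀ q : ℕ, q.Prime → q ∣ Nat.card G → q ≤ p) (P : Sylow p G) :
    (P : Subgroup G).Normal :=
  hereditary_sylow_aux _ G rfl h p hmax P

/-- If all maximal subgroups have prime index, the Sylow subgroup for the largest prime divisor is
normal. -/
theorem normal_sylow_of_prime_index [Finite G]
    (h : ∀ M : Subgroup G, IsCoatom M → M.index.Prime) {p : ℕ} [hp : Fact p.Prime]
    (hmax : ∀ q : ℕ, q.Prime → q ∣ Nat.card G → q ≤ p) (P : Sylow p G) :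
    (P : Subgroup G).Normal := by
  rw [← Subgroup.normalizer_eq_top_iff]
  by_contra hne
  obtain ⟨M, hM, hNM⟩ := (eq_top_or_exists_le_coatom _).resolve_left hne
  have hq := h M hM
  have hPM : (P : Subgroup G) ≤ M := Subgroup.le_normalizer.trans hNM
  have h1 : Nat.card (Sylow p G) = Nat.card (Sylow p M) * M.index := by
    rw [P.card_eq_index_normalizer, (P.subtype hPM).card_eq_index_normalizer, ← Sylow.coe_coe,
      ← Sylow.coe_coe (P := P.subtype hPM), Sylow.coe_subtype,
      ← Subgroup.subgroupOf_normalizer_eq hPM]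
    exact (Subgroup.relIndex_mul_index hNM).symm
  have h2 : M.index ≡ 1 [MOD p] := by
    have hG := card_sylow_modEq_one p G
    have hM' := (card_sylow_modEq_one p M).mul_right M.index
    rw [← h1, one_mul] at hM'
    exact hM'.symm.trans hG
  have hle : M.index ≤ p := hmax _ hq (Subgroup.index_dvd_card M)
  rcases hle.eq_or_lt with he | hlt
  · rw [Nat.ModEq, he, Nat.mod_self, Nat.mod_eq_of_lt hp.out.one_lt] at h2
    omega
  · rw [Nat.ModEq, Nat.mod_eq_of_lt hlt, Nat.mod_eq_of_lt hp.out.one_lt] at h2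
    exact hq.one_lt.ne' h2

theorem prime_index_quotient {G' : Type v} [Group G'] (f : G →* G') (hf : Function.Surjective f)
    (h : ∀ M : Subgroup G, IsCoatom M → M.index.Prime) (M : Subgroup G') (hM : IsCoatom M) :
    M.index.Prime := by
  have hco : IsCoatom (M.comap f) := by
    refine ⟨fun ht => hM.1 ?_, fun K hK => ?_⟩
    · rw [← Subgroup.map_comap_eq_self_of_surjective hf M, ht, Subgroup.map_top_of_surjective f hf]
    · have hker : f.ker ≤ K := (f.ker_le_comap M).trans hK.le
      have h1 : K.map f = ⊤ := by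
        refine hM.2 _ ?_
        rw [← Subgroup.comap_lt_comap_of_surjective hf, Subgroup.comap_map_eq_self hker]
        exact hK
      rw [← Subgroup.comap_map_eq_self hker, h1, Subgroup.comap_top]
  rw [← M.index_comap_of_surjective hf]
  exact h _ hco

theorem exists_max_prime [Finite G] (h : Nat.card G ≠ 1) :
    ∃ p : ℕ, p.Prime ∧ p ∣ Nat.card G ∧ ∀ q : ℕ, q.Prime → q ∣ Nat.card G → q ≤ p := by
  have hne : (Nat.card G).primeFactors.Nonempty := by
    rw [Finset.nonempty_iff_ne_empty, Ne, Nat.primeFactors_eq_empty]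
    have := Nat.card_pos (α := G)
    omega
  have hm := Finset.max'_mem _ hne
  exact ⟨_, Nat.prime_of_mem_primeFactors hm, Nat.dvd_of_mem_primeFactors hm, fun q hq hqd =>
    Finset.le_max' _ q (Nat.mem_primeFactors.mpr ⟨hq, hqd, Nat.card_pos.ne'⟩)⟩

theorem card_quotient_lt [Finite G] {N : Subgroup G} (hN : N ≠ ⊥) :
    Nat.card (G ⧸ N) < Nat.card G := by
  rw [← N.index_eq_card, ← N.card_mul_index]
  exact lt_mul_of_one_lt_left (Nat.pos_of_ne_zero Subgroup.index_ne_zero_of_finite)
    (N.one_lt_card_iff_ne_bot.mpr hN)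

private theorem solvable_prime_index_aux (n : ℕ) : ∀ (G : Type u) [Group G] [Finite G],
    Nat.card G = n → (∀ M : Subgroup G, IsCoatom M → M.index.Prime) → Group.IsSolvable G := by
  induction n using Nat.strongRecOn with | ind n ih => ?_
  intro G _ _ hn h
  rcases eq_or_ne (Nat.card G) 1 with h1 | h1
  · have : Subsingleton G := (Nat.card_eq_one_iff_unique.mp h1).1
    exact Group.isSolvable_of_comm fun a b => Subsingleton.elim _ _
  obtain ⟨p, hp, hdvd, hmax⟩ := exists_max_prime h1
  have := Fact.mk hp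
  let P : Sylow p G := default
  have := normal_sylow_of_prime_index h hmax P
  have hne : (P : Subgroup G) ≠ ⊥ := P.ne_bot_of_dvd_card hdvd
  have := ih _ (hn ▸ card_quotient_lt hne) (G ⧸ (P : Subgroup G)) rfl
    (prime_index_quotient _ (QuotientGroup.mk'_surjective _) h)
  have : Group.IsNilpotent P := P.isPGroup'.isNilpotent
  exact (Group.isSolvable_iff_subgroup_quotient (P : Subgroup G)).mpr ⟨inferInstance, inferInstance⟩

/-- A finite group whose maximal subgroups have prime index is solvable. -/
theorem isSolvable_of_prime_index [Finite G]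
    (h : ∀ M : Subgroup G, IsCoatom M → M.index.Prime) : Group.IsSolvable G :=
  solvable_prime_index_aux _ G rfl h

/-- A nontrivial normal subgroup of a supersolvable group contains a normal subgroup of prime
order. -/
theorem exists_normal_prime_card_le [Finite G] (h : Cfsg.IsSupersolvable G) {M : Subgroup G}
    [M.Normal] (hne : M ≠ ⊥) :
    ∃ N : Subgroup G, N.Normal ∧ (Nat.card N).Prime ∧ N ≤ M := by
  classical
  obtain ⟨n, H, h0, hn, hnorm, hstep⟩ := isSupersolvable_iff_nat.mp h
  have hex : ∃ i, H i ⊓ M ≠ ⊥ := ⟨n, by rwa [hn, top_inf_eq]⟩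
  have hspec := Nat.find_spec hex
  have hle := Nat.find_min' hex (m := n) (by rwa [hn, top_inf_eq])
  obtain ⟨j, hj⟩ : ∃ j, Nat.find hex = j + 1 :=
    Nat.exists_eq_succ_of_ne_zero fun h => hspec (by rw [h, h0, bot_inf_eq])
  rw [hj] at hspec
  have hjbot : H j ⊓ M = ⊥ := not_not.mp (Nat.find_min hex (by omega))
  obtain ⟨g, hg⟩ := hstep j (by omega)
  have := hnorm j
  set C := H (j + 1) ⊓ M with hC
  have hCn : C.Normal := @Subgroup.normal_inf_normal _ _ _ _ (hnorm _) inferInstance
  have hcyc : IsCyclic C := by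
    let f : C →* Subgroup.zpowers (QuotientGroup.mk' (H j) g) :=
      ((QuotientGroup.mk' (H j)).comp C.subtype).codRestrict _ (fun x => by
        have h2 : (QuotientGroup.mk' (H j)) x ∈ (H (j + 1)).map (QuotientGroup.mk' (H j)) :=
          Subgroup.mem_map_of_mem _ (Subgroup.mem_inf.mp x.2).1
        rwa [hg, Subgroup.map_sup, QuotientGroup.map_mk'_self, bot_sup_eq,
          MonoidHom.map_zpowers] at h2)
    refine isCyclic_of_injective f ((injective_iff_map_eq_one f).mpr fun x hx => ?_)
    have h2 : (x : G) ∈ H j ⊓ M := Subgroup.mem_inf.mpr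
      ⟨(QuotientGroup.eq_one_iff _).mp (congrArg Subtype.val hx), (Subgroup.mem_inf.mp x.2).2⟩
    rw [hjbot, Subgroup.mem_bot] at h2
    exact Subtype.ext h2
  obtain ⟨p, hp, hdvd⟩ := Nat.exists_prime_and_dvd (mt Subgroup.card_eq_one.mp hspec)
  have := Fact.mk hp
  obtain ⟨x, hx⟩ := exists_prime_orderOf_dvd_card' p hdvd
  have : (Subgroup.zpowers x).Characteristic := by
    refine Subgroup.characteristic_iff_map_le.mpr fun φ => ?_
    rw [MonoidHom.map_zpowers, Subgroup.zpowers_le]
    obtain ⟨m, hm⟩ := MonoidHom.map_cyclic φ.toMonoidHom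
    exact Subgroup.mem_zpowers_iff.mpr ⟨m, (hm x).symm⟩
  refine ⟨(Subgroup.zpowers x).map C.subtype, inferInstance, ?_,
    (Subgroup.map_subtype_le _).trans inf_le_right⟩
  rwa [Subgroup.card_map_of_injective C.subtype_injective, Nat.card_zpowers, hx]

theorem map_inf_of_ker_le {G' : Type v} [Group G'] (f : G →* G') {A B : Subgroup G}
    (hB : f.ker ≤ B) : (A ⊓ B).map f = A.map f ⊓ B.map f := by
  refine le_antisymm (le_inf (Subgroup.map_mono inf_le_left) (Subgroup.map_mono inf_le_right)) ?_
  rintro y ⟨⟨a, ha, rfl⟩, b, hb, hab⟩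
  refine ⟨a, Subgroup.mem_inf.mpr ⟨ha, ?_⟩, rfl⟩
  have h1 : b⁻¹ * a ∈ B := hB (by rw [MonoidHom.mem_ker, map_mul, map_inv, hab, inv_mul_cancel])
  have := B.mul_mem hb h1
  rwa [mul_inv_cancel_left] at this

private theorem sup_aux (n : ℕ) : ∀ (G : Type u) [Group G] [Finite G], Nat.card G = n →
    ∀ (p : ℕ) [Fact p.Prime] (P H : Subgroup G), P.Normal → IsPGroup p P →
      Cfsg.IsSupersolvable H → P ⊔ H = ⊤ → (P ⊓ H).Normal → H.relIndex P ∣ p →
      Cfsg.IsSupersolvable G := by
  induction n using Nat.strongRecOn with | ind n ih => ?_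
  intro G _ _ hn p _ P H hPn hP hH hsup hinf hidx
  by_cases hbot : P ⊓ H = ⊥
  · have hcard : Nat.card P ∣ p := by
      rwa [← Subgroup.inf_relIndex_left, hbot, Subgroup.relIndex_bot_left] at hidx
    have : IsCyclic P := isCyclic_of_card_dvd_prime hcard
    refine of_quotient P (of_surjective ((QuotientGroup.mk' P).comp H.subtype) ?_ hH)
    rw [← MonoidHom.range_eq_top, MonoidHom.range_comp, H.range_subtype]
    calc H.map (QuotientGroup.mk' P) = (P ⊔ H).map (QuotientGroup.mk' P) := by
          rw [Subgroup.map_sup, QuotientGroup.map_mk'_self, bot_sup_eq]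
      _ = ⊤ := by rw [hsup, Subgroup.map_top_of_surjective _ (QuotientGroup.mk'_surjective P)]
  -- the central part of `P ⊓ H`
  have : Group.IsNilpotent P := hP.isNilpotent
  set Z := (P ⊓ H) ⊓ Subgroup.centralizer (P : Set G) with hZ
  have hZn : Z.Normal := by
    have : (Subgroup.centralizer (P : Set G)).Normal := by
      constructor
      intro c hc g
      rw [Subgroup.mem_centralizer_iff] at hc ⊢
      intro x hx
      have h1 := hc _ (hPn.conj_mem _ hx g⁻¹)
      simp only [inv_inv] at h1
      calc x * (g * c * g⁻¹) = g * ((g⁻¹ * x * g) * c) * g⁻¹ := by group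
        _ = g * (c * (g⁻¹ * x * g)) * g⁻¹ := by rw [h1]
        _ = g * c * g⁻¹ * x := by group
    exact Subgroup.normal_inf_normal _ _
  have hZne : Z ≠ ⊥ := by
    obtain ⟨k, hk⟩ := (hP.to_le (inf_le_left : P ⊓ H ≤ P)).exists_card_eq
    have : ((P ⊓ H).subgroupOf P).Normal := hinf.subgroupOf P
    have hne' : (P ⊓ H).subgroupOf P ≠ ⊥ := by
      rw [Ne, Subgroup.subgroupOf_eq_bot, disjoint_iff, inf_eq_left.mpr inf_le_left]
      exact hbot
    -- a nontrivial normal subgroup of a `p`-group meets the centre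
    have hz : (P ⊓ H).subgroupOf P ⊓ Subgroup.center P ≠ ⊥ := by
      intro hcon
      have hfix := hP.of_equiv (MulEquiv.refl P)
      have hdvd : p ∣ Nat.card ((P ⊓ H).subgroupOf P) := by
        rcases k with _ | k
        · rw [pow_zero] at hk
          exact absurd (Subgroup.card_eq_one.mp hk) hbot
        · rw [Nat.card_congr (Subgroup.subgroupOfEquivOfLe inf_le_left).toEquiv, hk]
          exact dvd_pow_self p k.succ_ne_zero
      have hP' : IsPGroup p (ConjAct P) := hP
      obtain ⟨b, hb, hb1⟩ := hP'.exists_fixed_point_of_prime_dvd_card_of_fixed_point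
        ((P ⊓ H).subgroupOf P) hdvd (a := 1) (fun g => smul_one g)
      have hbc : (b : P) ∈ Subgroup.center P := Subgroup.mem_center_iff.mpr fun g => by
        have h2 : ConjAct.toConjAct g • (b : P) = b :=
          congrArg Subtype.val (hb (ConjAct.toConjAct g))
        rw [ConjAct.smul_def, ConjAct.ofConjAct_toConjAct] at h2
        exact mul_inv_eq_iff_eq_mul.mp h2
      have : (b : P) ∈ (P ⊓ H).subgroupOf P ⊓ Subgroup.center P :=
        Subgroup.mem_inf.mpr ⟨b.2, hbc⟩
      rw [hcon, Subgroup.mem_bot] at this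
      exact hb1 (Subtype.ext this.symm)
    obtain ⟨⟨x, hx⟩, hx1⟩ := (Subgroup.ne_bot_iff_exists_ne_one).mp hz
    intro hcon
    have hxZ : ((x : P) : G) ∈ Z := Subgroup.mem_inf.mpr ⟨(Subgroup.mem_inf.mp hx).1, by
      rw [Subgroup.mem_centralizer_iff]
      exact fun a ha => congrArg Subtype.val
        (Subgroup.mem_center_iff.mp (Subgroup.mem_inf.mp hx).2 ⟨a, ha⟩)⟩
    rw [hcon, Subgroup.mem_bot] at hxZ
    exact hx1 (Subtype.ext (Subtype.ext hxZ))
  have hZH : Z ≤ H := inf_le_left.trans inf_le_right
  have : (Z.subgroupOf H).Normal := hZn.subgroupOf H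
  obtain ⟨N', hN'n, hN'p, hN'Z⟩ := exists_normal_prime_card_le hH (M := Z.subgroupOf H)
    (by rw [Ne, Subgroup.subgroupOf_eq_bot, disjoint_iff, inf_eq_left.mpr hZH]; exact hZne)
  set N := N'.map H.subtype with hNdef
  have hNZ : N ≤ Z := by
    intro x ⟨y, hy, hyx⟩
    exact hyx ▸ hN'Z hy
  have hNn : N.Normal := by
    rw [← Subgroup.normalizer_eq_top_iff, ← top_le_iff, ← hsup]
    refine sup_le ?_ ?_
    · refine le_trans ?_ (Subgroup.centralizer_le_normalizer _)
      exact Subgroup.le_centralizer_iff.mp (hNZ.trans inf_le_right)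
    · have := Subgroup.le_normalizer_map H.subtype (H := N')
      rwa [Subgroup.normalizer_eq_top, ← MonoidHom.range_eq_map, H.range_subtype] at this
  have hcN : (Nat.card N).Prime := by
    rwa [hNdef, Subgroup.card_map_of_injective H.subtype_injective]
  have := Fact.mk hcN
  have : IsCyclic N := isCyclic_of_prime_card rfl
  refine of_quotient N ?_
  set f := QuotientGroup.mk' N
  have hsurj := QuotientGroup.mk'_surjective N
  have hker : f.ker ≤ P ⊓ H := by rw [QuotientGroup.ker_mk']; exact hNZ.trans inf_le_left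
  refine ih _ (hn ▸ card_quotient_lt (fun hb => hcN.ne_one (by rw [hb, Subgroup.card_bot])))
    (G ⧸ N) rfl p (P.map f) (H.map f) (hPn.map f hsurj) (hP.map f) ?_ ?_ ?_ ?_
  · exact of_surjective (f.subgroupMap H) (f.subgroupMap_surjective H) hH
  · rw [← Subgroup.map_sup, hsup, Subgroup.map_top_of_surjective _ hsurj]
  · rw [← map_inf_of_ker_le f (hker.trans inf_le_right)]
    exact hinf.map f hsurj
  · refine (dvd_of_eq ?_).trans hidx
    rw [← Subgroup.relIndex_comap, Subgroup.comap_map_eq_self (hker.trans inf_le_right)]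

/-- If `G = P H` with `P` a normal `p`-subgroup, `H` supersolvable and `P ∩ H` normal of index
dividing `p` in `P`, then `G` is supersolvable. -/
theorem of_sup_eq_top [Finite G] {p : ℕ} [Fact p.Prime] {P H : Subgroup G} [P.Normal]
    (hP : IsPGroup p P) (hH : Cfsg.IsSupersolvable H) (hsup : P ⊔ H = ⊤) (hinf : (P ⊓ H).Normal)
    (hidx : H.relIndex P ∣ p) : Cfsg.IsSupersolvable G :=
  sup_aux _ G rfl p P H inferInstance hP hH hsup hinf hidx

private theorem of_hereditary_aux (n : ℕ) : ∀ (G : Type u) [Group G] [Finite G], Nat.card G = n →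
    (∀ H : Subgroup G, Cfsg.HasSubgroupOfEveryOrder H) → Cfsg.IsSupersolvable G := by
  induction n using Nat.strongRecOn with | ind n ih => ?_
  intro G _ _ hn h
  rcases eq_or_ne (Nat.card G) 1 with h1 | h1
  · have : Subsingleton G := (Nat.card_eq_one_iff_unique.mp h1).1
    exact of_subsingleton
  obtain ⟨p, hp, hdvd, hmax⟩ := exists_max_prime h1
  have := Fact.mk hp
  let P : Sylow p G := default
  have hPn := normal_sylow_of_hereditary h hmax P
  obtain ⟨d, hd⟩ := hdvd
  obtain ⟨H, hH⟩ := hasSubgroupOfEveryOrder_of_mulEquiv Subgroup.topEquiv (h ⊤) d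
    (Dvd.intro_left p hd.symm)
  have hHidx : H.index = p := by
    have h2 := H.card_mul_index
    rw [hH, hd, mul_comm p] at h2
    exact Nat.eq_of_mul_eq_mul_left (hH ▸ Nat.card_pos (α := H)) h2
  have hHs := ih _ (by rw [hH, ← hn, hd]; exact lt_mul_of_one_lt_left (hH ▸ Nat.card_pos (α := H)) hp.one_lt)
    H rfl (hereditary_subgroup h H)
  have hsup : (P : Subgroup G) ⊔ H = ⊤ := by
    rw [← Subgroup.index_eq_one]
    refine Nat.eq_one_of_dvd_coprimes (hp.coprime_iff_not_dvd.mpr P.not_dvd_index)
      ((Subgroup.index_dvd_of_le le_sup_right).trans (dvd_of_eq hHidx)) (Subgroup.index_dvd_of_le le_sup_left)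
  have hidx : H.relIndex P = p := by
    have ha := Subgroup.relIndex_sup_right H (P : Subgroup G)
    rw [sup_comm, hsup, Subgroup.relIndex_top_right] at ha
    have hc := Subgroup.relIndex_mul_relIndex ⊥ ((P : Subgroup G) ⊓ H) H bot_le inf_le_right
    have he := Subgroup.relIndex_mul_relIndex ⊥ ((P : Subgroup G) ⊓ H) P bot_le inf_le_left
    rw [Subgroup.inf_relIndex_right, ← ha] at hc
    rw [Subgroup.inf_relIndex_left] at he
    simp only [Subgroup.relIndex_bot_left] at hc he
    have hG := (P : Subgroup G).card_mul_index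
    rw [hd, ← hH, ← hc, ← he] at hG
    refine Nat.eq_of_mul_eq_mul_left (Nat.mul_pos (Nat.card_pos (α := ↥((P : Subgroup G) ⊓ H)))
      (Nat.pos_of_ne_zero (Subgroup.index_ne_zero_of_finite (H := (P : Subgroup G))))) ?_
    linarith
  have : (((P : Subgroup G) ⊓ H).subgroupOf P).Normal := by
    refine Subgroup.normal_of_index_eq_minFac_card ?_
    show ((P : Subgroup G) ⊓ H).relIndex P = _
    rw [Subgroup.inf_relIndex_left, hidx]
    obtain ⟨k, hk⟩ := P.isPGroup'.exists_card_eq
    rcases k with _ | k
    · have := hidx ▸ Subgroup.relIndex_dvd_card H (P : Subgroup G)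
      rw [hk, pow_zero] at this
      exact absurd (Nat.dvd_one.mp this) hp.ne_one
    · rw [hk, hp.pow_minFac (Nat.succ_ne_zero k)]
  have hinf : ((P : Subgroup G) ⊓ H).Normal := by
    rw [← Subgroup.normalizer_eq_top_iff, ← top_le_iff, ← hsup]
    exact sup_le ((Subgroup.normal_subgroupOf_iff_le_normalizer inf_le_left).mp this)
      ((Subgroup.normal_subgroupOf_iff_le_normalizer inf_le_right).mp (by
        rw [Subgroup.inf_subgroupOf_right]; exact hPn.subgroupOf H))
  exact of_sup_eq_top P.isPGroup' hHs hsup hinf (dvd_of_eq hidx)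

/-- If all subgroups satisfy the converse of Lagrange's theorem, the group is supersolvable. -/
theorem of_hereditary [Finite G] (h : ∀ H : Subgroup G, Cfsg.HasSubgroupOfEveryOrder H) :
    Cfsg.IsSupersolvable G :=
  of_hereditary_aux _ G rfl h

private theorem maximal_prime_index_aux (n : ℕ) : ∀ (G : Type u) [Group G] [Finite G], Nat.card G = n →
    Cfsg.IsSupersolvable G → ∀ M : Subgroup G, IsCoatom M → M.index.Prime := by
  induction n using Nat.strongRecOn with | ind n ih => ?_
  intro G _ _ hn h M hM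
  rcases subsingleton_or_nontrivial G with hG | hG
  · exact absurd (Subsingleton.elim M ⊤) hM.1
  obtain ⟨N, hN, hp⟩ := exists_normal_prime_card h
  by_cases hle : N ≤ M
  · have hlt : Nat.card (G ⧸ N) < n := by
      rw [← hn, ← N.index_eq_card, ← N.card_mul_index]
      exact lt_mul_of_one_lt_left (Nat.pos_of_ne_zero Subgroup.index_ne_zero_of_finite) hp.one_lt
    have hsurj := QuotientGroup.mk'_surjective N
    have hc : (M.map (QuotientGroup.mk' N)).comap (QuotientGroup.mk' N) = M :=
      Subgroup.comap_map_eq_self (by rwa [QuotientGroup.ker_mk'])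
    have hM' : IsCoatom (M.map (QuotientGroup.mk' N)) := by
      refine ⟨fun ht => hM.1 ?_, fun K hK => ?_⟩
      · rw [← hc, ht, Subgroup.comap_top]
      · have h1 := hM.2 (K.comap (QuotientGroup.mk' N)) (by
          rw [← hc]
          exact (Subgroup.comap_lt_comap_of_surjective hsurj).mpr hK)
        rw [← Subgroup.map_comap_eq_self_of_surjective hsurj K, h1,
          Subgroup.map_top_of_surjective _ hsurj]
    have := ih _ hlt _ rfl (quotient h N) _ hM'
    rwa [← Subgroup.index_comap_of_surjective _ hsurj, hc] at this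
  · have hsup : M ⊔ N = ⊤ := hM.2 _ (by simpa using hle)
    have hinf : N ⊓ M = ⊥ := by
      refine Subgroup.eq_bot_of_card_eq _ ?_
      rcases (Nat.dvd_prime hp).mp (Subgroup.card_dvd_of_le (inf_le_left : N ⊓ M ≤ N)) with h1 | h1
      · exact h1
      · exact absurd (inf_eq_left.mp (Subgroup.eq_of_le_of_card_ge inf_le_left h1.ge)) hle
    have h3 : Nat.card N * Nat.card M = Nat.card G :=
      (Subgroup.isComplement'_of_disjoint_and_mul_eq_univ (disjoint_iff.mpr hinf)
        (by rw [← Subgroup.normal_mul, sup_comm, hsup, Subgroup.coe_top])).card_mul_card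
    rw [← M.index_mul_card] at h3
    rwa [← Nat.eq_of_mul_eq_mul_right Nat.card_pos h3]

/-- Maximal subgroups of supersolvable groups have prime index. -/
theorem maximal_prime_index [Finite G] (h : Cfsg.IsSupersolvable G) (M : Subgroup G)
    (hM : IsCoatom M) : M.index.Prime :=
  maximal_prime_index_aux _ G rfl h M hM

end CfsgLib.Supersolvable
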