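import Mathlib.FieldTheory.Finite.Basic
import Mathlib.Algebra.Module.ZMod
import Cfsg.Agent.Solvable.Frattini
import Cfsg.Agent.Coprime.PTimesQ
import Cfsg.Agent.Solvable.Basic
import Cfsg.Agent.Coprime.Abelian
import Cfsg.Agent.Supersolvable.Criteria

/-!
Huppert's criterion: a finite group all of whose maximal subgroups have prime index is
supersolvable.
-/

open Pointwise
open scoped commutatorElement

namespace CfsgLib.Supersolvable

universe u v

variable {G : Type u} [Group G]

/-- The subgroup generated by the commutators and the `k`-th powers. -/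
def commPowSubgroup (k : ℕ) (X : Type v) [Group X] : Subgroup X :=
  commutator X ⊔ Subgroup.closure (Set.range fun x : X => x ^ k)

theorem map_commPowSubgroup_le {X : Type v} [Group X] (f : G →* X) (k : ℕ) :
    (commPowSubgroup k G).map f ≤ commPowSubgroup k X := by
  rw [commPowSubgroup, Subgroup.map_sup, MonoidHom.map_closure]
  refine sup_le_sup ?_ (Subgroup.closure_mono ?_)
  · rw [← derivedSeries_one, ← derivedSeries_one]
    exact map_derivedSeries_le_derivedSeries f 1
  · rintro _ ⟨_, ⟨x, rfl⟩, rfl⟩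
    exact ⟨f x, (map_pow f x k).symm⟩

/-- An automorphism `a` of a group `N` of prime order `p` satisfies `a ^ (p-1) = 1`. -/
theorem pow_sub_one_apply_of_card_prime {N : Type v} [Group N] {p : ℕ} (hp : p.Prime)
    (hN : Nat.card N = p) (a : MulAut N) (x : N) : (a ^ (p - 1)) x = x := by
  have := Fact.mk hp
  have : Finite N := Nat.finite_of_card_ne_zero (hN ▸ hp.ne_zero)
  have : IsCyclic N := isCyclic_of_prime_card hN
  obtain ⟨i, hi⟩ := MonoidHom.map_cyclic a.toMonoidHom
  have hi' : ∀ y, a y = y ^ i := hi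
  have hpow : ∀ (n : ℕ) (y : N), (a ^ n) y = y ^ (i ^ n) := by
    intro n
    induction n with
    | zero => intro y; simp
    | succ n ih =>
      intro y
      rw [pow_succ', MulAut.mul_apply, ih, hi', ← zpow_mul, pow_succ]
  rcases eq_or_ne x 1 with rfl | hx
  · simp
  have hord : orderOf x = p := orderOf_eq_prime (hN ▸ pow_card_eq_one') hx
  have hcop : IsCoprime i (p : ℤ) := by
    rw [Int.isCoprime_iff_gcd_eq_one, Int.gcd_comm]
    by_contra hg
    have hdvd : (p : ℤ) ∣ i := by
      rw [Int.gcd_def, Int.natAbs_natCast] at hg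
      exact Int.natCast_dvd.mpr (not_not.mp fun h => hg (hp.coprime_iff_not_dvd.mpr h))
    have h2 := hi' x
    rw [orderOf_dvd_iff_zpow_eq_one.mp (by rw [hord]; exact hdvd)] at h2
    exact hx (by simpa using h2)
  rw [hpow]
  nth_rewrite 2 [← zpow_one x]
  rw [zpow_eq_zpow_iff_modEq, hord]
  exact Int.ModEq.pow_card_sub_one_eq_one hp hcop

theorem commPowSubgroup_le_centralizer [Finite G] {p : ℕ} (hp : p.Prime) {N : Subgroup G}
    [hNn : N.Normal] (hN : Nat.card N = p) :
    commPowSubgroup (p - 1) G ≤ Subgroup.centralizer (N : Set G) := by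
  have := Fact.mk hp
  have : IsCyclic N := isCyclic_of_prime_card hN
  have hker : commPowSubgroup (p - 1) G ≤ (MulAut.conjNormal : G →* MulAut N).ker := by
    rw [commPowSubgroup, sup_le_iff, Subgroup.closure_le, commutator_def, Subgroup.commutator_le]
    refine ⟨fun a _ b _ => ?_, ?_⟩
    · rw [MonoidHom.mem_ker, map_commutatorElement, commutatorElement_eq_one_iff_mul_comm]
      ext x
      obtain ⟨i, hi⟩ := MonoidHom.map_cyclic (MulAut.conjNormal a : MulAut N).toMonoidHom
      obtain ⟨j, hj⟩ := MonoidHom.map_cyclic (MulAut.conjNormal b : MulAut N).toMonoidHom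
      have hia : ∀ y : N, (MulAut.conjNormal a : MulAut N) y = y ^ i := hi
      have hjb : ∀ y : N, (MulAut.conjNormal b : MulAut N) y = y ^ j := hj
      simp only [MulAut.mul_apply, hia, hjb, ← zpow_mul, mul_comm]
    · rintro _ ⟨x, rfl⟩
      rw [SetLike.mem_coe, MonoidHom.mem_ker, map_pow]
      ext1 y
      exact pow_sub_one_apply_of_card_prime hp hN _ y
  intro b hb
  rw [Subgroup.mem_centralizer_iff]
  intro x hx
  have h1 := congrArg Subtype.val (DFunLike.congr_fun (MonoidHom.mem_ker.mp (hker hb)) ⟨x, hx⟩)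
  rw [MulAut.conjNormal_apply, MulAut.one_apply] at h1
  exact (mul_inv_eq_iff_eq_mul.mp h1).symm

private theorem centralize_aux (n : ℕ) : ∀ (G : Type u) [Group G] [Finite G], Nat.card G = n →
    Cfsg.IsSupersolvable G → ∀ (p : ℕ) [Fact p.Prime] (P : Subgroup G), P.Normal → IsPGroup p P →
      ∀ b ∈ commPowSubgroup (p - 1) G, (orderOf b).Coprime p →
        b ∈ Subgroup.centralizer (P : Set G) := by
  induction n using Nat.strongRecOn with | ind n ih => ?_
  intro G _ _ hn h p hp P hPn hP b hb hcop
  rcases eq_or_ne P ⊥ with rfl | hne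
  · simp [Subgroup.mem_centralizer_iff]
  obtain ⟨N, hN, hNp, hNP⟩ := exists_normal_prime_card_le h hne
  have hcN : Nat.card N = p := by
    obtain ⟨k, hk⟩ := (hP.to_le hNP).exists_card_eq
    rcases k with _ | _ | k
    · exact absurd hk (by simpa using hNp.ne_one)
    · simpa using hk
    · exfalso
      rw [hk, pow_succ] at hNp
      exact Nat.not_prime_mul (Nat.one_lt_pow k.succ_ne_zero hp.out.one_lt).ne' hp.out.ne_one hNp
  set f := QuotientGroup.mk' N
  have hsurj := QuotientGroup.mk'_surjective N
  have h1 := ih _ (hn ▸ card_quotient_lt (fun hb => hNp.ne_one (by rw [hb, Subgroup.card_bot])))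
    (G ⧸ N) rfl (quotient h N) p (P.map f) (hPn.map f hsurj) (hP.map f) (f b)
    (map_commPowSubgroup_le f _ ⟨b, hb, rfl⟩) (hcop.coprime_dvd_left (orderOf_map_dvd f b))
  set A := Subgroup.zpowers b
  have hPA : A ≤ Subgroup.normalizer (P : Set G) := Subgroup.le_normalizer_of_normal
  have hcomm : ⁅P, A⁆ ≤ N := by
    rw [← QuotientGroup.ker_mk' N, ← Subgroup.map_eq_bot_iff, Subgroup.map_commutator,
      Subgroup.commutator_eq_bot_iff_le_centralizer, MonoidHom.map_zpowers,
      Subgroup.le_centralizer_iff, Subgroup.zpowers_le]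
    exact h1
  have hcopA : (Nat.card A).Coprime (Nat.card P) := by
    obtain ⟨k, hk⟩ := hP.exists_card_eq
    rw [Nat.card_zpowers, hk]
    exact hcop.pow_right k
  have hA := Coprime.le_centralizer_of_commutator_commutator_eq_bot hPA hcopA (by
    rw [eq_bot_iff]
    refine (Subgroup.commutator_mono hcomm le_rfl).trans (le_of_eq ?_)
    rw [Subgroup.commutator_eq_bot_iff_le_centralizer, Subgroup.le_centralizer_iff,
      Subgroup.zpowers_le]
    exact commPowSubgroup_le_centralizer hp.out hcN hb)
  exact hA (Subgroup.mem_zpowers b)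

/-- An element of `p'`-order in `commPowSubgroup (p-1) G` centralises every normal `p`-subgroup
of a supersolvable group. -/
theorem mem_centralizer_of_mem_commPowSubgroup [Finite G] (h : Cfsg.IsSupersolvable G) {p : ℕ}
    [Fact p.Prime] {P : Subgroup G} [P.Normal] (hP : IsPGroup p P) {b : G}
    (hb : b ∈ commPowSubgroup (p - 1) G) (hcop : (orderOf b).Coprime p) :
    b ∈ Subgroup.centralizer (P : Set G) :=
  centralize_aux _ G rfl h p P inferInstance hP b hb hcop

/-- Over `ZMod p`, a linear map `f` with `f ^ (p-1) = 1` has an eigenvector. -/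
theorem exists_eigenvector {p : ℕ} [hp : Fact p.Prime] {M : Type v} [AddCommGroup M]
    [Module (ZMod p) M] (f : M →ₗ[ZMod p] M) (hf : f ^ (p - 1) = 1) {v : M} (hv : v ≠ 0) :
    ∃ (c : ZMod p) (w : M), w ≠ 0 ∧ f w = c • w := by
  classical
  let e : (ZMod p)ˣ → M := fun c =>
    ∑ i ∈ Finset.range (p - 1), ((c⁻¹ : (ZMod p)ˣ) : ZMod p) ^ i • (f ^ i) v
  have heig : ∀ c : (ZMod p)ˣ, f (e c) = (c : ZMod p) • e c := by
    intro c
    set g : ℕ → M := fun i => ((c⁻¹ : (ZMod p)ˣ) : ZMod p) ^ i • (f ^ i) v with hg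
    have hper : g (p - 1) = g 0 := by
      simp only [hg]
      rw [hf, pow_zero, pow_zero, ← Units.val_pow_eq_pow_val, ZMod.units_pow_card_sub_one_eq_one]
      simp
    have hshift : ∑ i ∈ Finset.range (p - 1), g (i + 1) = ∑ i ∈ Finset.range (p - 1), g i := by
      have h1 := Finset.sum_range_succ' g (p - 1)
      rw [Finset.sum_range_succ, hper] at h1
      exact add_right_cancel h1.symm
    show f (∑ i ∈ Finset.range (p - 1), g i) = (c : ZMod p) • ∑ i ∈ Finset.range (p - 1), g i
    conv_rhs => rw [← hshift, Finset.smul_sum]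
    rw [map_sum]
    refine Finset.sum_congr rfl fun i _ => ?_
    simp only [hg, map_smul, smul_smul, pow_succ', Module.End.mul_apply]
    rw [← mul_assoc, Units.mul_inv, one_mul]
  have hsum : ∑ c, e c = -v := by
    simp only [e]
    rw [Finset.sum_comm, Finset.sum_eq_single 0]
    · simp only [pow_zero, one_smul, Module.End.one_apply, Finset.sum_const, Finset.card_univ,
        ZMod.card_units p, ← Nat.cast_smul_eq_nsmul (ZMod p), Nat.cast_sub hp.out.one_le,
        CharP.cast_eq_zero, Nat.cast_one, zero_sub, neg_smul]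
    · intro i hi hi0
      rw [← Finset.sum_smul]
      have h2 : ∑ c : (ZMod p)ˣ, ((c⁻¹ : (ZMod p)ˣ) : ZMod p) ^ i = 0 := by
        refine (Fintype.sum_equiv (Equiv.inv (ZMod p)ˣ) _ (fun c => ((c : ZMod p) ^ i))
          (fun c => rfl)).trans ?_
        rw [FiniteField.sum_pow_units, ZMod.card, if_neg]
        intro hdvd
        exact absurd (Nat.le_of_dvd (Nat.pos_of_ne_zero hi0) hdvd)
          (not_le.mpr (Finset.mem_range.mp hi))
      rw [h2, zero_smul]
    · intro h0
      exact absurd (Finset.mem_range.mpr (Nat.sub_pos_of_lt hp.out.one_lt)) h0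
  obtain ⟨c, -, hc⟩ := Finset.exists_ne_zero_of_sum_ne_zero (hsum ▸ neg_ne_zero.mpr hv)
  exact ⟨_, _, hc, heig c⟩

/-- An endomorphism `σ` of an abelian group of exponent `p` with `σ ^ (p-1) = 1` sends some
nontrivial element to one of its powers. -/
theorem exists_eigen_mul {p : ℕ} [Fact p.Prime] {N : Type v} [CommGroup N]
    (hexp : ∀ x : N, x ^ p = 1) (σ : N →* N) (hσ : ∀ x : N, σ^[p - 1] x = x) {v : N} (hv : v ≠ 1) :
    ∃ (k : ℕ) (w : N), w ≠ 1 ∧ σ w = w ^ k := by
  letI : Module (ZMod p) (Additive N) := AddCommGroup.zmodModule fun x => by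
    refine Additive.toMul.injective ?_
    simpa using hexp x.toMul
  let f : Additive N →ₗ[ZMod p] Additive N := (MonoidHom.toAdditive σ).toZModLinearMap p
  obtain ⟨c, w, hw, hfw⟩ := exists_eigenvector f (by
    refine LinearMap.ext fun x => ?_
    rw [Module.End.pow_apply, Module.End.one_apply]
    exact hσ x.toMul) (v := Additive.ofMul v) (by simpa using hv)
  refine ⟨c.val, w.toMul, by simpa using hw, ?_⟩
  rw [← ZMod.natCast_zmod_val c, Nat.cast_smul_eq_nsmul] at hfw
  exact congrArg Additive.toMul hfw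

open scoped IsMulCommutative in
/-- A minimal normal elementary abelian `p`-subgroup centralised by `P` and acted on through an
abelian group of exponent dividing `p - 1` has prime order. -/
theorem card_eq_of_minimal [Finite G] {p : ℕ} [hp : Fact p.Prime] {N P H : Subgroup G}
    [hNn : N.Normal] (hne : N ≠ ⊥) (hmin : ∀ M : Subgroup G, M.Normal → M ≤ N → M = ⊥ ∨ M = N)
    [IsMulCommutative N] (hexp : ∀ x ∈ N, x ^ p = 1) (hsup : P ⊔ H = ⊤)
    (hP : P ≤ Subgroup.centralizer (N : Set G))
    (hcomm : ∀ a ∈ H, ∀ b ∈ H, ⁅a, b⁆ ∈ Subgroup.centralizer (N : Set G))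
    (hpow : ∀ a ∈ H, a ^ (p - 1) ∈ Subgroup.centralizer (N : Set G)) :
    Nat.card N = p := by
  obtain ⟨v, hv⟩ := (Subgroup.ne_bot_iff_exists_ne_one).mp hne
  have key : ∀ h ∈ H, ∃ k : ℕ, ∀ x ∈ N, h * x * h⁻¹ = x ^ k := by
    intro h hh
    let σ : N →* N := (MulAut.conjNormal h : MulAut N).toMonoidHom
    have hσi : ∀ (i : ℕ) (x : N), ((σ^[i] x : N) : G) = h ^ i * x * (h ^ i)⁻¹ := by
      intro i
      induction i with
      | zero => intro x; simp
      | succ i ih =>
        intro x
        rw [Function.iterate_succ_apply', pow_succ']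
        show h * ((σ^[i] x : N) : G) * h⁻¹ = _
        rw [ih]
        group
    obtain ⟨k, w, hw, hfw⟩ := exists_eigen_mul (fun x : N => Subtype.ext (by simpa using hexp x x.2))
      σ (fun x => Subtype.ext (by
        rw [hσi, (Subgroup.mem_centralizer_iff.mp (hpow h hh) _ x.2).symm, mul_inv_cancel_right]))
      hv
    refine ⟨k, ?_⟩
    -- the eigenspace is normal in `G`
    let E : Subgroup N :=
      MonoidHom.eqLocus (MulAut.conjNormal h : MulAut N).toMonoidHom (powMonoidHom k)
    have hE : ∀ x : N, x ∈ E ↔ h * (x : G) * h⁻¹ = (x : G) ^ k := fun x => by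
      show (MulAut.conjNormal h : MulAut N) x = x ^ k ↔ _
      rw [Subtype.ext_iff, MulAut.conjNormal_apply, SubmonoidClass.coe_pow]
    have hEn : (E.map N.subtype).Normal := by
      rw [← Subgroup.normalizer_eq_top_iff, ← top_le_iff, ← hsup]
      refine sup_le ((hP.trans ?_).trans (Subgroup.centralizer_le_normalizer _)) ?_
      · exact Subgroup.centralizer_le (Subgroup.map_subtype_le E)
      · rw [Subgroup.le_normalizer_iff]
        rintro a ha _ ⟨x, hx, rfl⟩
        refine ⟨⟨a * x * a⁻¹, hNn.conj_mem _ x.2 a⟩, (hE _).mpr ?_, rfl⟩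
        show h * (a * (x : G) * a⁻¹) * h⁻¹ = (a * (x : G) * a⁻¹) ^ k
        have hz := Subgroup.mem_centralizer_iff.mp (hcomm h hh a ha)
          (a * ((x : G) ^ k) * a⁻¹) (hNn.conj_mem _ (pow_mem x.2 _) a)
        rw [conj_pow]
        calc h * (a * (x : G) * a⁻¹) * h⁻¹
            = ⁅h, a⁆ * (a * (h * (x : G) * h⁻¹) * a⁻¹) * ⁅h, a⁆⁻¹ := by
              rw [commutatorElement_def]; group
          _ = a * (x : G) ^ k * a⁻¹ := by
              rw [(hE x).mp hx, ← hz, mul_inv_cancel_right]
    have hwE : w ∈ E := hfw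
    rcases hmin _ hEn (Subgroup.map_subtype_le E) with h1 | h1
    · rw [Subgroup.map_eq_bot_iff_of_injective _ N.subtype_injective] at h1
      rw [h1, Subgroup.mem_bot] at hwE
      exact absurd hwE (by simpa using hw)
    · intro x hx
      rw [← h1] at hx
      obtain ⟨y, hy, rfl⟩ := hx
      exact (hE y).mp hy
  -- every subgroup of `N` is normal in `G`
  set Z := Subgroup.zpowers (v : G)
  have hZN : Z ≤ N := Subgroup.zpowers_le.mpr v.2
  have hZn : Z.Normal := by
    rw [← Subgroup.normalizer_eq_top_iff, ← top_le_iff, ← hsup]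
    refine sup_le ((hP.trans (Subgroup.centralizer_le hZN)).trans
      (Subgroup.centralizer_le_normalizer _)) ?_
    rw [Subgroup.le_normalizer_iff]
    intro a ha x hx
    obtain ⟨k, hk⟩ := key a ha
    rw [hk x (hZN hx)]
    exact pow_mem hx k
  have hord : orderOf (v : G) = p :=
    orderOf_eq_prime (hexp _ v.2) (fun h1 => hv (Subtype.ext h1))
  rcases hmin Z hZn hZN with h1 | h1
  · exact absurd (Subgroup.zpowers_eq_bot.mp h1) (fun h2 => hv (Subtype.ext h2))
  · rw [← h1, Nat.card_zpowers, hord]

private theorem huppert_aux (n : ℕ) : ∀ (G : Type u) [Group G] [Finite G], Nat.card G = n →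
    (∀ M : Subgroup G, IsCoatom M → M.index.Prime) → Cfsg.IsSupersolvable G := by
  induction n using Nat.strongRecOn with | ind n ih => ?_
  intro G _ _ hn h
  rcases subsingleton_or_nontrivial G with hG | hG
  · exact of_subsingleton
  have hsolv := isSolvable_of_prime_index h
  have hquot : ∀ (N : Subgroup G) [N.Normal], N ≠ ⊥ → Cfsg.IsSupersolvable (G ⧸ N) := fun N _ hN =>
    ih _ (hn ▸ card_quotient_lt hN) (G ⧸ N) rfl
      (prime_index_quotient _ (QuotientGroup.mk'_surjective N) h)
  obtain ⟨N, hN, hne, hmin⟩ := Solvable.exists_minimal_normal (G := G)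
  -- we may assume `N` is the only minimal normal subgroup
  by_cases huniq : ∀ M : Subgroup G, M.Normal → M ≠ ⊥ → N ≤ M
  swap
  · push_neg at huniq
    obtain ⟨M, hM, hMne, hNM⟩ := huniq
    have hinf : N ⊓ M = ⊥ :=
      (hmin _ (Subgroup.normal_inf_normal N M) inf_le_left).resolve_right fun h1 =>
        hNM (inf_eq_left.mp h1)
    refine of_injective ((QuotientGroup.mk' N).prod (QuotientGroup.mk' M))
      ((injective_iff_map_eq_one _).mpr fun x hx => ?_) (prod (hquot N hne) (hquot M hMne))
    have h1 : x ∈ N ⊓ M := Subgroup.mem_inf.mpr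
      ⟨(QuotientGroup.eq_one_iff x).mp (congrArg Prod.fst hx),
        (QuotientGroup.eq_one_iff x).mp (congrArg Prod.snd hx)⟩
    rwa [hinf, Subgroup.mem_bot] at h1
  have : IsMulCommutative N := Solvable.isMulCommutative_of_minimal_normal hne hmin
  -- it is enough that `N` has prime order
  suffices hpr : (Nat.card N).Prime by
    have := Fact.mk hpr
    have : IsCyclic N := isCyclic_of_prime_card rfl
    exact of_quotient N (hquot N hne)
  by_cases hΦ : N ≤ frattini G
  swap
  · obtain ⟨M, hM, hNM⟩ : ∃ M : Subgroup G, IsCoatom M ∧ ¬ N ≤ M := by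
      by_contra hcon
      push_neg at hcon
      exact hΦ fun x hx => Solvable.mem_frattini_iff.mpr fun K hK => hcon K hK hx
    have hsup : N ⊔ M = ⊤ := hM.2 _ (by simpa using hNM)
    have hn' : (N ⊓ M).Normal := by
      rw [← Subgroup.normalizer_eq_top_iff, ← top_le_iff, ← hsup]
      refine sup_le ?_ ?_
      · refine le_trans ?_ (Subgroup.centralizer_le_normalizer _)
        intro x hx
        rw [Subgroup.mem_centralizer_iff]
        exact fun y hy => setLike_mul_comm (s := N) (Subgroup.mem_inf.mp hy).1 hx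
      · exact (le_inf Subgroup.le_normalizer_of_normal Subgroup.le_normalizer).trans
          Subgroup.inf_normalizer_le_normalizer_inf
    have hinf : N ⊓ M = ⊥ := (hmin _ hn' inf_le_left).resolve_right fun h1 => hNM (inf_eq_left.mp h1)
    have h3 : Nat.card N * Nat.card M = Nat.card G :=
      (Subgroup.isComplement'_of_disjoint_and_mul_eq_univ (disjoint_iff.mpr hinf)
        (by rw [← Subgroup.normal_mul, hsup, Subgroup.coe_top])).card_mul_card
    rw [← M.index_mul_card] at h3
    rw [Nat.eq_of_mul_eq_mul_right Nat.card_pos h3]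
    exact h M hM
  obtain ⟨p, hp, hdvd, hmax⟩ := exists_max_prime (G := G) Finite.one_lt_card.ne'
  have := Fact.mk hp
  let P : Sylow p G := default
  have hPn := normal_sylow_of_prime_index h hmax P
  have hNP : N ≤ P := huniq _ hPn (P.ne_bot_of_dvd_card hdvd)
  obtain ⟨H, hH⟩ := Subgroup.exists_right_complement'_of_coprime P.card_coprime_index
  have hsup := hH.sup_eq_top
  have hcopH : (Nat.card H).Coprime (Nat.card (P : Subgroup G)) := by
    rw [← hH.symm.index_eq_card]; exact P.card_coprime_index.symm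
  have hexp : ∀ x ∈ N, x ^ p = 1 := by
    obtain ⟨q, hq, hqexp⟩ := Solvable.exists_prime_pow_eq_one_of_minimal_normal hne hmin
    obtain ⟨x, hx⟩ := (Subgroup.ne_bot_iff_exists_ne_one).mp hne
    obtain ⟨k, hk⟩ := P.isPGroup' ⟨x, hNP x.2⟩
    have h1 : orderOf (x : G) = q :=
      have := Fact.mk hq
      orderOf_eq_prime (hqexp x x.2) fun h1 => hx (Subtype.ext h1)
    have h2 : q ∣ p ^ k := h1 ▸ orderOf_dvd_of_pow_eq_one (congrArg Subtype.val hk)
    rw [← (Nat.prime_dvd_prime_iff_eq hq hp).mp (hq.dvd_of_dvd_pow h2)]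
    exact hqexp
  -- `P` centralises `N`
  have : Group.IsNilpotent P := P.isPGroup'.isNilpotent
  have hPC : (P : Subgroup G) ≤ Subgroup.centralizer (N : Set G) := by
    have hlt : ⁅N, (P : Subgroup G)⁆ < N :=
      Coprime.commutator_lt_of_isPGroup (P.isPGroup'.to_le hNP) P.isPGroup'
        Subgroup.le_normalizer_of_normal hne
    rw [Subgroup.le_centralizer_iff, ← Subgroup.commutator_eq_bot_iff_le_centralizer]
    exact (hmin _ inferInstance hlt.le).resolve_right hlt.ne
  -- `B` centralises `N`
  set B := commPowSubgroup (p - 1) G ⊓ H with hB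
  suffices hBN : B ≤ Subgroup.centralizer (N : Set G) by
    rw [card_eq_of_minimal hne hmin hexp hsup hPC (fun a ha b hb => hBN ?_) (fun a ha => hBN ?_)]
    · exact hp
    · refine Subgroup.mem_inf.mpr ⟨Subgroup.mem_sup_left ?_, ?_⟩
      · exact Subgroup.commutator_mem_commutator (Subgroup.mem_top a) (Subgroup.mem_top b)
      · exact H.mul_mem (H.mul_mem (H.mul_mem ha hb) (H.inv_mem ha)) (H.inv_mem hb)
    · exact Subgroup.mem_inf.mpr
        ⟨Subgroup.mem_sup_right (Subgroup.subset_closure ⟨a, rfl⟩), pow_mem ha _⟩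
  suffices hBP : B ≤ Subgroup.centralizer ((P : Subgroup G) : Set G) from
    hBP.trans (Subgroup.centralizer_le hNP)
  have hcopB : (Nat.card B).Coprime (Nat.card (P : Subgroup G)) :=
    hcopH.coprime_dvd_left (Subgroup.card_dvd_of_le inf_le_right)
  have hmodN : ⁅(P : Subgroup G), B⁆ ≤ N := by
    set f := QuotientGroup.mk' N
    rw [← QuotientGroup.ker_mk' N, ← Subgroup.map_eq_bot_iff, Subgroup.map_commutator,
      Subgroup.commutator_eq_bot_iff_le_centralizer, Subgroup.le_centralizer_iff]
    rintro _ ⟨b, hb, rfl⟩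
    have := hPn.map f (QuotientGroup.mk'_surjective N)
    refine mem_centralizer_of_mem_commPowSubgroup (hquot N hne) (P.isPGroup'.map f)
      (map_commPowSubgroup_le f _ ⟨b, (Subgroup.mem_inf.mp hb).1, rfl⟩) ?_
    obtain ⟨k, hk⟩ := P.isPGroup'.exists_card_eq
    rcases k with _ | k
    · exact absurd (Subgroup.card_eq_one.mp (hk.trans (pow_zero p))) (P.ne_bot_of_dvd_card hdvd)
    refine ((hcopB.coprime_dvd_right (hk ▸ dvd_pow_self p k.succ_ne_zero)).coprime_dvd_left ?_)
    exact (orderOf_map_dvd f b).trans (Subgroup.orderOf_dvd_natCard _ hb)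
  by_cases hΦP : (frattini (P : Subgroup G)).map (P : Subgroup G).subtype = ⊥
  swap
  · -- `N ≤ Φ(P)`: the action is trivial on the Frattini quotient
    have hle := huniq _ inferInstance hΦP
    exact Coprime.le_centralizer_of_commutator_le_frattini Subgroup.le_normalizer_of_normal
      (hcopB.coprime_dvd_right (Subgroup.card_subgroup_dvd_card _)) (hmodN.trans hle)
  · -- `P` is abelian
    have hPab : IsMulCommutative (P : Subgroup G) := by
      rw [← commutator_eq_bot_iff, eq_bot_iff,
        ← (Subgroup.map_eq_bot_iff_of_injective _ (P : Subgroup G).subtype_injective).mp hΦP]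
      exact Solvable.commutator_le_frattini P.isPGroup'
    have hBn : H ≤ Subgroup.normalizer (B : Set G) := by
      have : (commPowSubgroup (p - 1) G).Normal := by
        refine Subgroup.normalizer_eq_top_iff.mp (top_le_iff.mp fun g _ => ?_)
        rw [Subgroup.mem_normalizer_iff_map_conj_eq]
        refine Subgroup.eq_of_le_of_card_ge (map_commPowSubgroup_le _ _) (le_of_eq ?_)
        rw [Subgroup.card_map_of_injective (MulEquiv.injective _)]
      exact (le_inf Subgroup.le_normalizer_of_normal Subgroup.le_normalizer).trans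
        Subgroup.inf_normalizer_le_normalizer_inf
    have hPB : B ≤ Subgroup.normalizer ((P : Subgroup G) : Set G) := Subgroup.le_normalizer_of_normal
    set C := (P : Subgroup G) ⊓ Subgroup.centralizer (B : Set G) with hC
    have hCn : C.Normal := by
      rw [← Subgroup.normalizer_eq_top_iff, ← top_le_iff, ← hsup]
      refine sup_le ?_ ?_
      · refine le_trans ?_ (Subgroup.centralizer_le_normalizer _)
        intro x hx
        rw [Subgroup.mem_centralizer_iff]
        exact fun y hy => setLike_mul_comm (s := (P : Subgroup G)) (Subgroup.mem_inf.mp hy).1 hx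
      · rw [Subgroup.le_normalizer_iff]
        intro a ha x hx
        obtain ⟨hxP, hxC⟩ := Subgroup.mem_inf.mp hx
        refine Subgroup.mem_inf.mpr ⟨hPn.conj_mem x hxP a, ?_⟩
        rw [Subgroup.mem_centralizer_iff]
        intro b hb
        have h1 := Subgroup.mem_centralizer_iff.mp hxC _
          ((Subgroup.le_normalizer_iff.mp hBn) a⁻¹ (H.inv_mem ha) b hb)
        rw [inv_inv] at h1
        calc b * (a * x * a⁻¹) = a * ((a⁻¹ * b * a) * x) * a⁻¹ := by group
          _ = a * (x * (a⁻¹ * b * a)) * a⁻¹ := by rw [h1]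
          _ = a * x * a⁻¹ * b := by group
    have hzero : ⁅(P : Subgroup G), B⁆ = ⊥ := by
      by_contra hne2
      have hKn : (⁅(P : Subgroup G), B⁆).Normal := by
        rw [← Subgroup.normalizer_eq_top_iff, ← top_le_iff, ← hsup]
        refine sup_le (Subgroup.normalizer_commutator_ge_left _ _) ?_
        intro a ha
        rw [Subgroup.mem_normalizer_iff_map_conj_eq]
        show (⁅(P : Subgroup G), B⁆).map (MulAut.conj a).toMonoidHom = _
        rw [Subgroup.map_commutator]
        exact congrArg₂ _ (Coprime.conj_smul_eq_self (Subgroup.le_normalizer_of_normal ha))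
          (Coprime.conj_smul_eq_self (hBn ha))
      have hKN : ⁅(P : Subgroup G), B⁆ = N :=
        (hmin _ hKn hmodN).resolve_left hne2
      have hdec := Coprime.inf_centralizer_inf_commutator_eq_bot hPB hcopB
      have hsum := Coprime.inf_centralizer_sup_commutator_eq hPB hcopB
      rw [← hC, hKN] at hdec hsum
      have hCbot : C = ⊥ := by
        by_contra hC'
        exact hne (eq_bot_iff.mpr (hdec ▸ le_inf (huniq C hCn hC') le_rfl))
      rw [hCbot, bot_sup_eq] at hsum
      have hHtop : H = ⊤ := Solvable.eq_top_of_sup_frattini (top_le_iff.mp (by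
        rw [← hsup]
        exact sup_le (hsum ▸ hΦ.trans le_sup_right) le_sup_left))
      rw [hHtop] at hcopH
      have h1 := Nat.eq_one_of_dvd_coprimes hcopH
        (by rw [Subgroup.card_top]; exact Subgroup.card_subgroup_dvd_card _) dvd_rfl
      exact P.ne_bot_of_dvd_card hdvd (Subgroup.card_eq_one.mp h1)
    rwa [Subgroup.commutator_eq_bot_iff_le_centralizer, Subgroup.le_centralizer_iff] at hzero

/-- **Huppert's criterion**: if every maximal subgroup has prime index, the group is
supersolvable. -/
theorem of_prime_index [Finite G] (h : ∀ M : Subgroup G, IsCoatom M → M.index.Prime) :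
    Cfsg.IsSupersolvable G :=
  huppert_aux _ G rfl h

end CfsgLib.Supersolvable
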